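import Cfsg.Agent.Lib.KSp.BabA
import Cfsg.Agent.Lib.KSp.BabU
import Cfsg.Agent.Lib.KSp.Mon
import Cfsg.Agent.Lib.KSp.E6
import Cfsg.Agent.Lib.MonSC.Four
import Cfsg.Agent.Lib.MonSC.Cay
import Cfsg.Agent.Lib.YM.Nodes
import Cfsg.Agent.S1054
import Cfsg.Agent.S1062
import Cfsg.Agent.S1070
import Cfsg.Agent.S2130

/-! Involution centralisers of the Baby Monster (Griess model). -/

set_option autoImplicit false
open Cfsg Cfsg.Lie Subgroup H95 H95.Gr H18.YG

namespace H71.KS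

theorem mem_cent2 {G : Type*} [Group G] {a b k : G} :
    k ∈ centralizer {a} ⊓ centralizer {b} ↔ k * a = a * k ∧ k * b = b * k := by
  rw [mem_inf, mem_centralizer_singleton_iff, mem_centralizer_singleton_iff]

theorem mem_norm2 {G : Type*} [Group G] [Finite G] {a b g : G} (h1 : g * a * g⁻¹ ∈ closure ({a, b} : Set G))
    (h2 : g * b * g⁻¹ ∈ closure ({a, b} : Set G)) :
    g ∈ normalizer ((centralizer {a} ⊓ centralizer {b} : Subgroup G) : Set G) := by
  rw [← show centralizer ((closure ({a, b} : Set G) : Subgroup G) : Set G) = _ from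
    Subgroup.ext fun _ => mem_centralizer_closure_pair.trans mem_cent2.symm]
  exact H70.normalizer_le_normalizer_centralizer _ (mem_normalizer_fintype fun n hn => (closure_le
    ((closure ({a, b} : Set G)).comap (MulAut.conj g).toMonoidHom)).2 (by rintro _ (rfl | rfl); exacts [h1, h2]) hn)

theorem piB_comm {h u : HH} : piB h * piB u = piB u * piB h ↔ cj h u = u ∨ cj h u = t0 * u := by
  rw [← mul_inv_eq_iff_eq_mul, ← map_inv, ← map_mul, ← map_mul, eq_comm, piB_eq]; rfl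

theorem lift2 (u h : HH) (e : piB h * piB u = piB u * piB h) :
    h.1 ∈ normalizer ((centralizer {t0} ⊓ centralizer {u.1} : Subgroup GG) : Set GG) ∧
      h.1 ^ 2 ^ 2 ∈ centralizer {t0} ⊓ centralizer {u.1} := by
  have a : t0 ∈ closure ({t0, u.1} : Set GG) := subset_closure (by simp)
  have b : u.1 ∈ closure ({t0, u.1} : Set GG) := subset_closure (by simp)
  have c := mem_HH.1 h.2
  have d := piB_comm.1 e
  refine ⟨mem_norm2 (by rwa [← cj_apply, c]) (by
    rw [← cj_apply]; rcases d with d | d <;> rw [d]; exacts [b, mul_mem a b]), pow_mem h.2 _, ?_⟩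
  rw [show 2 ^ 2 = 2 * 2 from rfl, pow_mul]
  refine pow_mem (mem_cent_iff.2 (mul_inv_eq_iff_eq_mul.1 (show cj (h.1 ^ 2) u = u from ?_))) _
  rw [pow_two, cj_mul]
  rcases d with d | d <;> rw [d]
  · exact d
  · rw [map_mul, c, d, ← mul_assoc, t0_sq, one_mul]

theorem fine_Z (u : HH) (z : IZ u) : Fine (centralizer ({piB u} : Set BM)) := by
  refine fine_of_charP (charP_lift (K := centralizer {t0} ⊓ centralizer {u.1}) inf_le_left piB
    (QuotientGroup.mk'_surjective _) (fun k hk => piB_comm.2 (.inl (mul_inv_eq_iff_eq_mul.2 (mem_cent2.1 hk).2)))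
    (lift2 u) (H70.isPGroup_zpowers (x := t0) (k := 1) (by rw [pow_one, pow_two, t0_sq]))
    (fun h e => mem_subgroupOf.1 ((QuotientGroup.eq_one_iff h).1 e))
    (fun k hk => zpowers_le.2 (mem_cent_iff.2 (mem_cent2.1 hk).1.symm)) ?_)
  rw [inf_comm]
  exact (charP_iz z).inf_centralizer_singleton (k := 1) (by rw [pow_one, pow_two, t0_sq])
    (mem_cent_iff.2 (mem_cent_iff.1 u.2).symm)

theorem exists_four : ∃ x, InD t0 x ∧ H29.IsPair t0 x ∧ (∃ o, o * t0 * o⁻¹ = x ∧ o * x * o⁻¹ = t0) ∧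
    commutator (centralizer {t0} ⊓ centralizer {x} : Subgroup GG) = ⊤ ∧
    ∃ ψ : (centralizer {t0} ⊓ centralizer {x} : Subgroup GG) →* H18.E6N.T, Function.Surjective ψ ∧
      ∀ k, ψ k = 1 ↔ k.1 ∈ closure ({t0, x} : Set GG) := by
  obtain ⟨u, h1, h2⟩ := H77.YM.exists_nodes
  have hx : Nd _ := ⟨sat_xs H43.MC.center_GG h1, h2⟩
  obtain ⟨z, hz, hd⟩ : ∃ z, Nd z ∧ z 5 = t0 := by
    obtain ⟨d, hd⟩ := hx.std
    exact ⟨_, ⟨hx.1.map (cj d).toMonoidHom, hx.2.conj d⟩, hd⟩
  have i : InD t0 (z 10) := ⟨hz.ix (by norm_num), hd ▸ hz.ix2⟩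
  have p : H29.IsPair (z 5) (z 10) := ⟨hz.1.sq 5, hz.2.ne_one, hz.1.sq 10, i.1.ne_one,
    fun a => hz.ix2.ne_one (by rw [a, hz.1.sq]), (sat553 hz.1).comm (by decide +kernel)⟩
  have g := (gsub_fF hz.1).trans hz.cent2
  have a := perfect_fF hz.1
  have b := exists_psi hz.1 p (by rw [g, hd, card_cent2 i])
  rw [g] at a b
  exact ⟨_, i, hd ▸ p, hd ▸ ⟨_, o_f1 (sat553 hz.1), o_f2 (sat553 hz.1)⟩, hd ▸ a, hd ▸ b⟩

theorem conj_piB {u v : HH} {c : GG} (hc : c ∈ HH) (e : cj c u = v) : IsConj (piB u) (piB v) :=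
  piB.map_isConj (isConj_iff.2 ⟨⟨c, hc⟩, Subtype.ext e⟩)

theorem sq_pair {x k : GG} (p : H29.IsPair t0 x) (h : k ∈ closure ({t0, x} : Set GG)) : k ^ 2 = 1 := by
  rw [pow_two]
  rcases p.mem_closure.1 h with rfl | rfl | rfl | rfl
  exacts [one_mul _, p.sq₁, p.sq₂, by rw [mul_assoc, ← mul_assoc x, ← p.comm, mul_assoc, p.sq₂, mul_one, p.sq₁]]

theorem simple_T : IsSimpleGroup H18.E6N.T ∧ ¬ IsMulCommutative H18.E6N.T :=
  Agent.S1070.result Nat.prime_two.isPrimePow rfl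

theorem fine_D (u : HH) (d : InD t0 u) : Fine (centralizer ({piB u} : Set BM)) := by
  obtain ⟨x, i, p, -, -, ψ, s, ker⟩ := exists_four
  obtain ⟨c, hc, e⟩ := trans_D i d
  have := simple_T.1
  have : Finite H18.E6N.T := Finite.of_surjective ψ s
  refine Fine.conj (Nice.fine ?_) (conj_piB (u := ⟨x, i.mem⟩) hc e)
  exact nice_lift (K := centralizer {t0} ⊓ centralizer {x}) inf_le_left piB (QuotientGroup.mk'_surjective _)
    (fun k hk => piB_comm.2 (.inl (mul_inv_eq_iff_eq_mul.2 (mem_cent2.1 hk).2))) (lift2 ⟨x, i.mem⟩) ψ s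
    (H70.isPGroup_iff_mem.2 fun k hk => ⟨1, Subtype.ext (sq_pair p ((ker k).1 hk))⟩)
    (fun k e => (ker k).2 (p.mem_closure.2 ((piB_eq_one.1 e).imp_right .inl)))
    (nice_simple (by rw [H18.E6N.card_T]; norm_num))

section Outer
variable {T F : Type*} [Group T] [Group F] [Finite F] {x y : GG} (i : InD t0 x) (p : H29.IsPair t0 x)
  (ψ : (centralizer {t0} ⊓ centralizer {x} : Subgroup GG) →* T) (s : Function.Surjective ψ)
  (ker : ∀ k, ψ k = 1 ↔ k.1 ∈ closure ({t0, x} : Set GG)) {κ : F →* T} (hκ : Function.Injective κ)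
  (cF : Nat.card F = 3311126603366400) (yy : y * y = 1) (e0 : (x * y) ^ 2 = t0)
  (hy : ∀ k, ψ k ∈ κ.range ↔ y * k * y⁻¹ * k.1⁻¹ ∈ closure ({t0, x} : Set GG))
include i p s ker hκ cF yy e0 hy

theorem outer_D : InD t0 y := by
  have yi := inv_eq_of_mul_eq_one_right yy
  obtain ⟨a, b, ha, hb, e⟩ := prod_of_sq (u := x * y) (by rw [← pow_two, e0]; exact ix_t0)
  obtain ⟨da, db⟩ := inD_of_sq ha hb (e ▸ e0)
  have := Fact.mk (show Nat.Prime 17 by norm_num)
  obtain ⟨f, of⟩ := exists_prime_orderOf_dvd_card' (G := F) 17 (by rw [cF]; norm_num)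
  obtain ⟨k, hk⟩ := s (κ f)
  have k17 : (k.1 ^ 2) ^ 17 = 1 := by
    rw [← pow_mul, mul_comm, pow_mul, ← coe_pow]
    exact sq_pair p ((ker (k ^ 17)).1 (by rw [map_pow, hk, ← map_pow, ← of, pow_orderOf_eq_one, map_one]))
  have k1 : k.1 ^ 2 ≠ 1 := fun e => by
    have := orderOf_dvd_of_pow_eq_one (hκ (show κ (f ^ 2) = κ 1 by
      rw [map_pow, ← hk, ← map_pow, show k ^ 2 = 1 from Subtype.ext e, map_one, map_one]))
    rw [of] at this
    omega
  have m := (hy (k ^ 2)).1 (by rw [map_pow, hk]; exact ⟨f ^ 2, map_pow _ _ _⟩)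
  obtain ⟨kt, kx⟩ := mem_cent2.1 (k ^ 2).2
  rw [coe_pow] at m kt kx
  generalize k.1 ^ 2 = k at k17 k1 m kt kx
  have ky : k * y = y * k := by
    have c : Commute (y * k * y⁻¹ * k⁻¹) k := mem_centralizer_iff.1 (mem_centralizer_closure_pair.2 ⟨kt, kx⟩) _ m
    have := c.mul_pow 17
    rw [inv_mul_cancel_right, conj_pow, k17, show 17 = 2 * 8 + 1 from rfl, pow_succ, pow_mul, sq_pair p m] at this
    simp only [mul_one, mul_inv_cancel, one_pow, one_mul] at this
    exact (mul_inv_eq_iff_eq_mul.1 (mul_inv_eq_one.1 this.symm)).symm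
  have kc : ∀ {v}, k * v = v * k → cj (k ^ 13) v = v := fun h =>
    mul_inv_eq_iff_eq_mul.2 (Commute.pow_left h 13)
  have k4 : (k ^ 13) ^ 4 = k := by rw [← pow_mul, show 13 * 4 = 17 * 3 + 1 from rfl, pow_succ, pow_mul, k17]; simp
  have ku : Commute k (a * b) := e ▸ Commute.mul_right kx ky
  have ka : Commute k a := mul_inv_eq_iff_eq_mul.1 (k4 ▸ cj_four ix_t0 da db (e ▸ e0) (kc kt) (.inl (kc ku)))
  have kb : Commute k b := by simpa using ka.inv_right.mul_right ku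
  have nz : ∀ v, Commute k v → ¬ IZ v := fun v c z => by
    obtain ⟨g⟩ := cent_conj z
    have := orderOf_dvd_natCard (⟨k, mem_cent_iff.2 c⟩ : centralizer {v})
    rw [← Nat.card_congr g.toEquiv, card_Cz, orderOf_mk, orderOf_eq_prime k17 k1] at this
    omega
  have nz' : ∀ v, Commute k v → NZ t0 x v := fun v c => ⟨nz _ (Commute.mul_right kx c),
    nz _ (Commute.mul_right (Commute.mul_right kt kx) c), nz _ ((Commute.mul_right kx c).pow_right 2)⟩
  have ey : y = x * (a * b) := by rw [← e, ← mul_assoc, i.1.sq, one_mul]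
  rcases fac1 ix_t0 i da db (e ▸ e0) (by
    rw [← ey, ← hb.inv, ← ha.inv, ← mul_inv_rev, ← e, mul_inv_rev, yi, i.1.inv]) (nz' _ ka) (nz' _ kb)
    with f | f | f | f <;> rw [ey, f]
  · rwa [← mul_assoc, ha.sq, one_mul]
  · rw [mul_assoc, ← mul_assoc a, ha.sq, one_mul]; exact db.mul ix_t0
  · rw [← mul_assoc]; exact db.tri ix_t0 da
  · rw [mul_assoc, ← mul_assoc b]; exact (db.tri ix_t0 da).mul ix_t0

theorem fine_outer (n : Nice F) (u : HH) (d : u.1 * u = t0) : Fine (centralizer ({piB u} : Set BM)) := by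
  have dy := outer_D i p ψ s ker hκ cF yy e0 hy
  have l : centralizer {x} ⊓ centralizer {y} ≤ centralizer {t0} ⊓ centralizer {x} := fun k hk =>
    mem_cent2.2 ⟨e0 ▸ (Commute.mul_right (mem_cent2.1 hk).1 (mem_cent2.1 hk).2).pow_right 2, (mem_cent2.1 hk).1⟩
  let χ := (ψ.comp (inclusion l)).codRestrict κ.range fun k => (hy _).2 (by
    rw [coe_inclusion, ← (mem_cent2.1 k.2).2]; simp)
  have kχ : ∀ k, χ k = 1 ↔ k.1 = 1 ∨ k.1 = t0 := fun k => by
    refine Subtype.ext_iff.trans ((ker _).trans (p.mem_closure.trans (or_congr_right (or_iff_left fun e => ?_))))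
    have := (mem_cent2.1 k.2).2
    refine ne_comm_of_sq i.1 dy.1 (e0 ▸ ix_t0.ne_one) ?_
    rcases e with e | e <;> rw [show k.1 = _ from e] at this
    · exact this
    · rwa [← mul_assoc, ← dy.comm ix_t0, mul_assoc, mul_assoc, mul_right_inj] at this
  have c1 : Nat.card χ.ker ≤ 2 := by
    rw [← orderOf_eq_prime (x := t0) (p := 2) (by rw [pow_two, t0_sq]) ix_t0.ne_one, ← Nat.card_zpowers,
      ← card_map_of_injective (subtype_injective _)]
    refine card_le_of_le ?_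
    rintro _ ⟨k, hk, rfl⟩
    rcases (kχ k).1 hk with e | e <;> rw [subtype_apply, e]
    exacts [one_mem _, mem_zpowers _]
  have c2 := χ.ker.card_mul_index
  have c3 := ((centralizer {y}).subgroupOf (centralizer {t0} ⊓ centralizer {x})).card_mul_index
  let ε := MonoidHom.ofInjective hκ
  have : Finite κ.range := Finite.of_equiv _ ε.toEquiv
  have c4 := (card_le_card_group χ.range).trans (Nat.card_congr ε.toEquiv).ge
  have sub : MulAction.orbit (centralizer {t0} ⊓ centralizer {x} : Subgroup GG) (H94.CPt.of y) ⊆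
      {v : GG | DX IX t0 v ∧ FF x v = 1 / 64} := by
    rintro _ ⟨k, rfl⟩
    have a : cj k t0 = t0 := mul_inv_eq_iff_eq_mul.2 (mem_cent2.1 k.2).1
    have b : cj k x = x := mul_inv_eq_iff_eq_mul.2 (mem_cent2.1 k.2).2
    have d := dy.conj' k.2.1
    have := congrArg (cj k) e0
    rw [map_pow, map_mul, a, b] at this
    exact ⟨d, ff64 ix_t0 i d this⟩
  have c6 : {v : GG | DX IX t0 v ∧ FF x v = 1 / 64}.ncard = 46227456 := (sys_top.count_B ix_t0 i).2.2.1
  have c5 := (Set.ncard_le_ncard sub (Set.toFinite (α := GG) _)).trans c6.le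
  rw [card_cent2 i, ← relIndex, ← inf_subgroupOf_left, Nat.card_congr (subgroupOfEquivOfLe inf_le_left).toEquiv,
    inf_assoc, inf_eq_right.2 (l.trans inf_le_left), show (centralizer {y}).relIndex _ = _ from
      (congrArg (relIndex · _) (show _ = MulAction.stabilizer GG (H94.CPt.of y) from Subgroup.ext fun x =>
        mem_cent_iff.trans H94.CPt.smul_eq_self_iff.symm)).trans (H18.TC.relIndex_stabilizer _ _)] at c3
  rw [index_ker] at c2
  rw [cF] at c4
  have c7 := c2.ge.trans (Nat.mul_le_mul_right _ c1)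
  have orb := Set.eq_of_subset_of_ncard_le sub (c6.le.trans (by nlinarith)) (Set.toFinite (α := GG) _)
  have sχ : χ.range = ⊤ := eq_top_of_le_card _ (by rw [← Nat.card_congr ε.toEquiv, cF]; nlinarith)
  obtain ⟨a, b, ha, hb, e⟩ := prod_of_sq (u := u) (d.symm ▸ ix_t0)
  have e1 : (a * b) ^ 2 = t0 := by rw [← e, pow_two, d]
  obtain ⟨da, db⟩ := inD_of_sq ha hb e1
  obtain ⟨c, hc, f⟩ := trans_D da i
  obtain ⟨k, hk⟩ := orb.ge (show cj c b ∈ {v : GG | _} from ⟨db.conj' hc, ff64 ix_t0 i (db.conj' hc) (by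
    rw [← f, ← map_mul, ← map_pow, e1, mem_HH.1 hc])⟩)
  refine Fine.conj (Nice.fine ?_) (conj_piB (u := ⟨x * y, mul_mem i.mem dy.mem⟩) (mul_mem (inv_mem hc) k.2.1) (by
    rw [cj_mul, map_mul, show cj k y = _ from hk, e,
      show cj k x = x from mul_inv_eq_iff_eq_mul.2 (mem_cent2.1 k.2).2, ← f, ← map_mul, cj_cj]))
  refine nice_lift (l.trans inf_le_left) piB (QuotientGroup.mk'_surjective _)
    (fun k hk => piB_comm.2 (.inl (mul_inv_eq_iff_eq_mul.2 (Commute.mul_right (mem_cent2.1 hk).1 (mem_cent2.1 hk).2))))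
    (fun h e => ?_) χ (MonoidHom.range_eq_top.1 sχ) (H70.isPGroup_iff_mem.2 fun k hk => ⟨1, Subtype.ext ?_⟩)
    (fun k e => (kχ k).2 (piB_eq_one.1 e)) (n.congr ε.symm)
  · have q := piB_comm.1 e
    have h0 := mem_HH.1 h.2
    have w := swap_D ix_t0 i dy e0
    have mx : x ∈ closure ({x, y} : Set GG) := subset_closure (by simp)
    have my : y ∈ closure ({x, y} : Set GG) := subset_closure (by simp)
    have mt : t0 ∈ closure ({x, y} : Set GG) := e0 ▸ pow_mem (mul_mem mx my) 2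
    refine ⟨mem_norm2 ?_ ?_, mem_cent2.2 ⟨mul_inv_eq_iff_eq_mul.1 (cj_four ix_t0 i dy e0 h0 q),
      mul_inv_eq_iff_eq_mul.1 (cj_four ix_t0 dy (i.mul ix_t0) (w.symm ▸ e0) h0 (w.symm ▸ q))⟩⟩ <;> rw [← cj_apply]
    · rcases cj_fac ix_t0 i dy e0 h0 q with f | f | f | f <;> rw [f]
      exacts [mx, mul_mem mt mx, my, mul_mem mt my]
    · rcases cj_swap ix_t0 i dy e0 h0 q with f | f | f | f <;> rw [f]
      exacts [my, mul_mem mt my, mul_mem mt mx, mx]
  · rcases (kχ k).1 hk with e | e <;> rw [pow_one, coe_pow, e]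
    exacts [one_pow _, (pow_two _).trans t0_sq]

end Outer

theorem fine_sq (u : HH) (d : u.1 * u = t0) : Fine (centralizer ({piB u} : Set BM)) := by
  obtain ⟨x, i, p, ⟨o, o1, o2⟩, perf, ψ, s, ker⟩ := exists_four
  have := simple_T.1
  obtain ⟨sF, nF⟩ := Agent.S1054.result (F := ZMod 2) chevF4 (by simp)
  have cF : Nat.card (chevF4.group (ZMod 2)) = 3311126603366400 := (Agent.S1062.result (q := 2) rfl).trans (by norm_num)
  have : Finite (chevF4.group (ZMod 2)) := Nat.finite_of_card_ne_zero (by rw [cF]; norm_num)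
  obtain ⟨σ, ι, h2, hι, hf⟩ := exists_sigma (K := H30.F4) rfl
  obtain ⟨c, hc, c2⟩ := trans_D i (i.mul ix_t0)
  obtain ⟨y, κ, hκ, yy, y1, y2, hy⟩ := exists_outer p o1 o2 (mem_HH.1 hc) c2 rfl ψ s ker perf simple_T.2
    (by have := Fact.mk Nat.prime_two; exact Agent.S2130.result (K := H30.F4) 2 1 rfl le_rfl) h2 hι hf nF
    (by rw [cF, H18.E6N.card_T]; norm_num)
  refine fine_outer i p ψ s ker hκ cF yy ?_ hy (nice_simple (by rw [cF]; norm_num)) u d
  rw [inv_eq_of_mul_eq_one_right yy] at y2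
  rw [pow_two, mul_assoc, ← mul_assoc y, y2, i.comm ix_t0, ← mul_assoc, i.1.sq, one_mul]

theorem allFine_BM : AllFine BM := fun t ht => by
  obtain ⟨u, rfl⟩ := QuotientGroup.mk'_surjective _ t
  rcases piB_eq_one.1 ((map_mul piB u u).trans (sq_of_ord ht)) with e | e
  swap
  · exact fine_sq u e
  have n := fun h => ne_of_ord ht (piB_eq_one.2 h)
  have c := mem_cent_iff.1 u.2
  rcases H96.MRec.two_classes (x := u) e fun h => n (.inl h) with a | a
  swap
  · exact fine_Z u a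
  rcases H96.MRec.two_classes (x := t0 * u) (by rw [mul_assoc, ← mul_assoc u.1, c, mul_assoc, show u.1 * u = 1 from e,
    mul_one, t0_sq]) fun h => n (.inr ((eq_inv_of_mul_eq_one_right h).trans ix_t0.inv)) with b | b
  · exact fine_D u ⟨a, b⟩
  · exact piB_eq.2 (.inr rfl : _ ∨ (⟨t0, mem_cent_iff.2 rfl⟩ * u : HH).1 = _) ▸ fine_Z _ b

end H71.KS
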