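import Cfsg.Agent.Lib.KSp.Ext
import Cfsg.Agent.Lib.LargeExtra.Pair
import Cfsg.Agent.Lib.SL2.Klein
import Cfsg.Agent.S1304
import Cfsg.Prelude.Def_KGroupFacts

/-! Abstract lemmas for the involution centralisers of the Baby Monster. -/

set_option autoImplicit false
open Cfsg Subgroup

namespace H71.KS

variable {G T F A B : Type*} [Group G] [Group T] [Group F] [Group A] [Group B]

theorem exists_ind (α : A →* MulAut G) (ψ : G →* T) (s : Function.Surjective ψ)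
    (h : ∀ n k, ψ k = 1 → ψ (α n k) = 1) : ∃ ρ : A →* MulAut T, ∀ n k, ρ n (ψ k) = ψ (α n k) := by
  have : ∀ n, ∃ f : T →* T, ∀ k, f (ψ k) = ψ (α n k) := fun n =>
    ⟨_, ψ.liftOfRightInverse_comp_apply _ (Function.rightInverse_surjInv s) ⟨ψ.comp (α n).toMonoidHom, h n⟩⟩
  choose f hf using this
  have i : ∀ m n, m * n = 1 → (f m).comp (f n) = MonoidHom.id T := fun m n e => MonoidHom.ext (s.forall.2 fun k => by
    rw [MonoidHom.comp_apply, hf, hf, ← MulAut.mul_apply, ← map_mul, e, map_one]; rfl)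
  refine ⟨MonoidHom.mk' (fun n => MonoidHom.toMulEquiv (f n) (f n⁻¹) (i _ _ (inv_mul_cancel n)) (i _ _ (mul_inv_cancel n)))
    fun m n => MulEquiv.ext (s.forall.2 fun k => ?_), hf⟩
  show f (m * n) (ψ k) = f m (f n (ψ k))
  rw [hf, hf, hf, map_mul, MulAut.mul_apply]

theorem central_eq_one [IsSimpleGroup T] (hT : ¬ IsMulCommutative T) {g : T} (h : ∀ x, x * g = g * x) : g = 1 :=
  ((IsSimpleGroup.eq_bot_or_eq_top_of_normal (center T) inferInstance).resolve_right fun e =>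
    hT ⟨⟨fun a b => mem_center_iff.1 (e.ge (mem_top b)) a⟩⟩).le (mem_center_iff.2 h)

/-- an outer involution with prescribed fixed group is induced by the normaliser of the four-group -/
theorem exists_outer [Finite G] [IsSimpleGroup T] [IsSimpleGroup F] {a b o c : G} (p : H29.IsPair a b)
    (o1 : o * a * o⁻¹ = b) (o2 : o * b * o⁻¹ = a) (c1 : c * a * c⁻¹ = a) (c2 : c * b * c⁻¹ = a * b) {K : Subgroup G}
    (hK : K = centralizer {a} ⊓ centralizer {b}) (ψ : K →* T) (s : Function.Surjective ψ)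
    (ker : ∀ k, ψ k = 1 ↔ k.1 ∈ closure ({a, b} : Set G)) (perf : commutator K = ⊤) (hT : ¬ IsMulCommutative T)
    (ho : Nat.card (Out T) = 6) {σ : MulAut T} {ι : F →* T} (h2 : σ * σ = 1) (hι : Function.Injective ι)
    (hf : ∀ g, σ g = g ↔ g ∈ ι.range) (hF : ¬ IsMulCommutative F) (hc : Nat.card F ≠ Nat.card T) :
    ∃ (y : G) (κ : F →* T), Function.Injective κ ∧ y * y = 1 ∧ y * a * y⁻¹ = a ∧ y * b * y⁻¹ = a * b ∧
      ∀ k : K, ψ k ∈ κ.range ↔ y * k * y⁻¹ * k.1⁻¹ ∈ closure ({a, b} : Set G) := by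
  have k4 := p.isKleinFour.card_four
  have : Finite T := Finite.of_surjective ψ s
  have mK : ∀ {k}, k ∈ K ↔ k * a = a * k ∧ k * b = b * k := by
    intro k; rw [hK, mem_inf, mem_centralizer_singleton_iff, mem_centralizer_singleton_iff]
  have cK : centralizer ((closure ({a, b} : Set G) : Subgroup G) : Set G) = K :=
    Subgroup.ext fun _ => H95.mem_centralizer_closure_pair.trans mK.symm
  have KN : K ≤ normalizer ((closure ({a, b} : Set G) : Subgroup G) : Set G) := cK ▸ centralizer_le_normalizer _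
  have NK : normalizer ((closure ({a, b} : Set G) : Subgroup G) : Set G) ≤ normalizer (K : Set G) :=
    cK ▸ H70.normalizer_le_normalizer_centralizer _
  have aK : a ∈ K := mK.2 ⟨rfl, p.comm⟩
  have bK : b ∈ K := mK.2 ⟨p.comm.symm, rfl⟩
  have nm : ∀ {g}, g * a * g⁻¹ ∈ closure ({a, b} : Set G) → g * b * g⁻¹ ∈ closure ({a, b} : Set G) →
      g ∈ normalizer ((closure ({a, b} : Set G) : Subgroup G) : Set G) := fun {g} h1 h2 =>
    mem_normalizer_fintype fun n hn => (closure_le ((closure ({a, b} : Set G)).comap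
      (MulAut.conj g).toMonoidHom)).2 (by rintro _ (rfl | rfl); exacts [h1, h2]) hn
  obtain ⟨θ, hθ⟩ := H95.exists_hom_four p.sq₁ p.sq₂ p.comm p.ne₁ p.ne₂ p.ne
  have d1 : o * c * o⁻¹ * b * (o * c * o⁻¹)⁻¹ = b := by
    calc _ = o * (c * (o⁻¹ * b * o) * c⁻¹) * o⁻¹ := by group
      _ = _ := by rw [show o⁻¹ * b * o = a by rw [← o1]; group, c1, o1]
  have d2 : o * c * o⁻¹ * a * (o * c * o⁻¹)⁻¹ = a * b := by
    calc _ = o * (c * (o⁻¹ * a * o) * c⁻¹) * o⁻¹ := by group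
      _ = _ := by rw [show o⁻¹ * a * o = b by rw [← o2]; group, c2, ← conj_mul, o1, o2, p.comm]
  have top : θ.range = ⊤ := H95.perm3_top
    ⟨⟨c, nm (p.mem_closure.2 (by simp [c1])) (p.mem_closure.2 (by simp [c2]))⟩, rfl⟩
    ⟨⟨_, nm (p.mem_closure.2 (.inr (.inr (.inr d2)))) (p.mem_closure.2 (.inr (.inr (.inl d1))))⟩, rfl⟩
    ((hθ _ 0 0).2 c1) ((hθ _ 1 2).2 c2) ((hθ _ 1 1).2 d1) ((hθ _ 0 2).2 d2)
  have kθ : θ.ker = K.subgroupOf _ := Subgroup.ext fun g => by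
    rw [MonoidHom.mem_ker, mem_subgroupOf, mK]
    exact ⟨fun h => ⟨mul_inv_eq_iff_eq_mul.1 ((hθ g 0 0).1 (by rw [h]; rfl)),
      mul_inv_eq_iff_eq_mul.1 ((hθ g 1 1).1 (by rw [h]; rfl))⟩, fun h =>
      (by decide : ∀ σ : Equiv.Perm (Fin 3), σ 0 = 0 → σ 1 = 1 → σ = 1) _
        ((hθ g 0 0).2 (mul_inv_eq_iff_eq_mul.2 h.1)) ((hθ g 1 1).2 (mul_inv_eq_iff_eq_mul.2 h.2))⟩
  have EK : closure ({a, b} : Set G) ≤ K := (closure_le _).2 (by rintro _ (rfl | rfl) <;> assumption)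
  generalize hE : closure ({a, b} : Set G) = E at *
  let α := K.normalizerMonoidHom.comp (inclusion NK)
  have hα : ∀ n k, (α n k : G) = n * k * n.1⁻¹ := fun _ _ => rfl
  obtain ⟨ρ, hρ⟩ := exists_ind α ψ s fun n k h => (ker _).2 ((mem_normalizer_iff.1 n.2 _).1 ((ker k).1 h))
  have fx : ∀ n (k : K), ρ n (ψ k) = ψ k ↔ n.1 * k * n.1⁻¹ * k.1⁻¹ ∈ E := fun n k => by
    rw [hρ, ← mul_inv_eq_one, ← map_inv, ← map_mul, ker]; rfl
  have kρ : ∀ n, ρ n = 1 → n.1 ∈ E := fun n h => by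
    have e := Agent.S1304.result perf (α n) fun k => mem_center_iff.2 fun l => Subtype.ext
      (mem_centralizer_iff.1 (cK.ge l.2) _ ((fx n k).1 (by rw [h]; rfl))).symm
    have e' : ∀ k ∈ K, n * k = k * n := fun k hk => mul_inv_eq_iff_eq_mul.1 (congrArg Subtype.val (e ⟨k, hk⟩))
    refine (ker ⟨n, mK.2 ⟨e' a aK, e' b bK⟩⟩).1 (central_eq_one hT (s.forall.2 fun k => ?_))
    rw [← map_mul, ← map_mul]
    exact congrArg ψ (Subtype.ext (e' k k.2).symm)
  have sρ : ρ.range = ⊤ := by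
    have e1 := θ.ker.card_mul_index
    have e2 := ρ.ker.card_mul_index
    have e3 := ψ.ker.card_mul_index
    have e4 := (Inn T).card_mul_index
    have e5 : Nat.card ρ.ker ≤ 4 := by
      rw [← k4, ← card_map_of_injective (subtype_injective _)]
      exact card_le_of_le (by rintro _ ⟨n, h, rfl⟩; exact kρ n h)
    rw [index_ker, top, card_top, kθ, Nat.card_congr (subgroupOfEquivOfLe KN).toEquiv, Nat.card_perm] at e1
    rw [index_ker, MonoidHom.range_eq_top.2 s, card_top, show ψ.ker = E.subgroupOf K from Subgroup.ext ker,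
      Nat.card_congr (subgroupOfEquivOfLe EK).toEquiv, k4] at e3
    rw [show (Inn T).index = 6 from ho, ← Nat.card_congr (MonoidHom.ofInjective (f := (MulAut.conj : T →* MulAut T))
      ((injective_iff_map_eq_one _).2 fun g e => central_eq_one hT fun x =>
        (mul_inv_eq_iff_eq_mul.1 (DFunLike.congr_fun e x)).symm)).toEquiv] at e4
    rw [index_ker, ← e1, ← e3, Nat.card_fin] at e2
    refine eq_top_of_le_card _ ?_
    rw [← e4]
    simp only [Nat.factorial] at e2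
    nlinarith
  obtain ⟨m, rfl⟩ := MonoidHom.range_eq_top.1 sρ σ
  have t2 : θ m * θ m = 1 := by
    rw [← map_mul]; exact kθ.ge (EK (kρ _ ((map_mul _ _ _).trans h2)))
  have t1 : θ m ≠ 1 := fun e => by
    have mk : m.1 ∈ K := kθ.le e
    have cj : ∀ x, ρ m x * ψ ⟨m, mk⟩ = ψ ⟨m, mk⟩ * x := s.forall.2 fun k => by
      rw [hρ, ← map_mul, ← map_mul]; exact congrArg ψ (Subtype.ext (by simp [hα]))
    obtain ⟨f, e⟩ := (hf _).1 (mul_right_cancel (cj (ψ ⟨m, mk⟩)))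
    obtain rfl : f = 1 := central_eq_one hF fun x => hι (by
      rw [map_mul, map_mul, e, ← cj, (hf _).2 ⟨x, rfl⟩])
    exact hc (Nat.card_congr (Equiv.ofBijective ι ⟨hι, fun x => (hf x).1 (by simpa [← e] using cj x)⟩))
  obtain ⟨τ, u1, u2⟩ := (by decide : ∀ π : Equiv.Perm (Fin 3), π * π = 1 → π ≠ 1 →
    ∃ τ : Equiv.Perm (Fin 3), (τ * π * τ⁻¹) 0 = 0 ∧ (τ * π * τ⁻¹) 1 = 2) _ t2 t1
  obtain ⟨g, rfl⟩ := MonoidHom.range_eq_top.1 top τ
  rw [← map_inv, ← map_mul, ← map_mul, hθ] at u1 u2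
  have nn := kρ (g * m * g⁻¹ * (g * m * g⁻¹)) (by rw [conj_mul, map_mul, map_mul, map_mul, h2]; simp)
  have fk : ∀ k : K, ψ k ∈ ((ρ g).toMonoidHom.comp ι).range ↔ _ := fun k => Iff.trans (by
    rw [map_mul, map_mul, map_inv, MulAut.mul_apply, MulAut.mul_apply, ← (ρ g).symm.injective.eq_iff,
      MulEquiv.symm_apply_apply]
    exact Iff.trans ⟨fun ⟨f, e⟩ => ⟨f, (ρ g).eq_symm_apply.2 e⟩, fun ⟨f, e⟩ => ⟨f, (ρ g).eq_symm_apply.1 e⟩⟩
      (hf _).symm) (fx (g * m * g⁻¹) k)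
  have inj : Function.Injective ((ρ g).toMonoidHom.comp ι) := (ρ g).injective.comp hι
  rw [coe_mul _ (g * m * g⁻¹)] at nn
  generalize ((g * m * g⁻¹ : normalizer (E : Set G)) : G) = n at u1 u2 nn fk
  replace u1 : n * a * n⁻¹ = a := u1
  replace u2 : n * b * n⁻¹ = a * b := u2
  have u3 : n * (n * n) * n⁻¹ = n * n := by group
  rcases p.mem_closure.1 (hE.ge nn) with e | e | e | e
  · exact ⟨n, _, inj, e, u1, u2, fk⟩
  · refine ⟨n * b, _, inj, ?_, ?_, ?_, fun k => ?_⟩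
    · rw [show n * b * (n * b) = n * b * n⁻¹ * (n * n) * b by group, u2, e, mul_assoc a, ← p.comm, ← mul_assoc,
        p.sq₁, one_mul, p.sq₂]
    · rw [mul_assoc n, ← p.comm, ← mul_assoc, mul_inv_rev, ← mul_assoc, mul_inv_cancel_right, u1]
    · rw [← u2]; group
    · rw [fk, mul_assoc n b, ← (mK.1 k.2).2, ← mul_assoc, mul_inv_rev, ← mul_assoc, mul_inv_cancel_right]
  · rw [e, u2] at u3
    exact absurd (mul_eq_right.1 u3) p.ne₁
  · rw [e, ← conj_mul, u1, u2] at u3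
    exact absurd (mul_eq_right.1 u3) p.ne₁

section Lift
variable [Finite G] {H K : Subgroup G} (l : K ≤ H) (π : H →* B) (s : Function.Surjective π) {u : B}
  (h1 : ∀ k : H, k.1 ∈ K → π k * u = u * π k)
  (h2 : ∀ h : H, π h * u = u * π h → h.1 ∈ normalizer (K : Set G) ∧ h.1 ^ 2 ^ 2 ∈ K)
include l s h1 h2

theorem nice_lift (ψ : K →* T) (sψ : Function.Surjective ψ) (hk : IsPGroup 2 ψ.ker)
    (h3 : ∀ k : K, π (inclusion l k) = 1 → ψ k = 1) (n : Nice T) : Nice (centralizer ({u} : Set B)) := by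
  have : Finite B := Finite.of_surjective π s
  let φ := (π.comp (inclusion l)).codRestrict (centralizer {u}) fun k => mem_centralizer_singleton_iff.2 (h1 _ k.2)
  have lf : ∀ c : centralizer ({u} : Set B), ∃ h, π h = c ∧ h.1 ∈ normalizer (K : Set G) ∧ h.1 ^ 2 ^ 2 ∈ K := fun c =>
    (s c).imp fun h e => ⟨e, h2 h (e ▸ mem_centralizer_singleton_iff.1 c.2)⟩
  have : φ.range.Normal := ⟨by
    rintro _ ⟨k, rfl⟩ c
    obtain ⟨h, e, a, -⟩ := lf c
    refine ⟨⟨_, (mem_normalizer_iff.1 a _).1 k.2⟩, Subtype.ext ?_⟩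
    rw [coe_mul, coe_mul, coe_inv, ← e]
    exact (map_mul π (h * inclusion l k) h⁻¹).trans (by rw [map_mul, map_inv]; rfl)⟩
  have sr := φ.rangeRestrict_surjective
  obtain ⟨χ, hχ⟩ : ∃ χ : φ.range →* T, ∀ k, χ (φ.rangeRestrict k) = ψ k :=
    ⟨_, φ.rangeRestrict.liftOfRightInverse_comp_apply _ (Function.rightInverse_surjInv sr)
      ⟨ψ, fun k e => h3 k (congrArg (fun x : φ.range => x.1.1) e)⟩⟩
  refine (n.of_surj χ (sψ.forall.2 fun k => ⟨_, hχ k⟩) (H70.isPGroup_iff_mem.2 (sr.forall.2 fun k e => ?_))).ext _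
    fun c => ⟨2, ?_⟩
  · obtain ⟨j, e⟩ := H70.isPGroup_iff_mem.1 hk k ((hχ k).symm.trans e)
    exact ⟨j, by rw [← map_pow, e, map_one]⟩
  · obtain ⟨c, rfl⟩ := QuotientGroup.mk_surjective c
    obtain ⟨h, e, -, a⟩ := lf c
    rw [← QuotientGroup.mk_pow, QuotientGroup.eq_one_iff]
    exact ⟨⟨_, a⟩, Subtype.ext ((map_pow π h _).trans (by rw [e]; rfl))⟩

theorem charP_lift {D : Subgroup G} (hD : IsPGroup 2 D) (h3 : ∀ h : H, π h = 1 → h.1 ∈ D)
    (h4 : ∀ k ∈ K, D ≤ centralizer {k}) (c : H70.CharP 2 K) : H70.CharP 2 (centralizer ({u} : Set B)) := by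
  have : Finite B := Finite.of_surjective π s
  refine charP_of_normal (R := ((pCoreOf 2 K).subgroupOf H).map π) ((H70.isPGroup_pCoreOf 2 K).comap_subtype.map π)
    ?_ (fun x hx => mem_normalizer_fintype ?_) (H70.isPGroup_of_forall_coprime fun x hx o => ?_)
  · rintro _ ⟨k, hk, rfl⟩
    exact mem_centralizer_singleton_iff.2 (h1 k (H70.pCoreOf_le 2 K hk))
  · rintro _ ⟨k, hk, rfl⟩
    obtain ⟨h, rfl⟩ := s x
    exact ⟨h * k * h⁻¹, (mem_normalizer_iff.1 (H70.normalizer_le_normalizer_pCoreOf 2 K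
      (h2 h (mem_centralizer_singleton_iff.1 hx)).1) _).1 hk, by simp⟩
  · obtain ⟨h, rfl⟩ := s x
    obtain ⟨m, hm⟩ : ∃ m, (orderOf ((h.1 ^ 2 ^ 2) ^ 2 ^ m)).Coprime 2 := ⟨_, by
      rw [orderOf_pow_of_dvd (pow_ne_zero _ two_ne_zero) (Nat.ordProj_dvd _ _)]
      exact (Nat.coprime_ordCompl Nat.prime_two (orderOf_pos _).ne').symm⟩
    have k := pow_mem (h2 h (mem_centralizer_singleton_iff.1 hx.1)).2 (2 ^ m)
    have e := c.eq_one k hm (H70.le_centralizer_of_commutator_mem hD hm (h4 _ k) fun v hv => ?_)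
    · refine H70.eq_one_of_coprime_of_pow (k := 2 + m) o ?_
      rw [pow_add, pow_mul, ← map_pow, ← map_pow, show (h ^ 2 ^ 2) ^ 2 ^ m = 1 from Subtype.ext e, map_one]
    · refine h3 (⟨v, l (H70.pCoreOf_le 2 K hv)⟩ * (h ^ 2 ^ 2) ^ 2 ^ m * ⟨v, l (H70.pCoreOf_le 2 K hv)⟩⁻¹ *
        ((h ^ 2 ^ 2) ^ 2 ^ m)⁻¹) ?_
      rw [map_mul, map_mul, map_mul, map_inv, map_inv, map_pow, map_pow,
        mem_centralizer_iff.1 (pow_mem (pow_mem hx.2 _) _) _ ⟨_, hv, rfl⟩]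
      group

end Lift

end H71.KS
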